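import Cfsg.Agent.Lib.Comp.P43h.Base

set_option maxRecDepth 100000
set_option Elab.async false

namespace Cfsg.Lib.Comp.P43h

universe u

noncomputable def nets_1 : Net :=
 (Net.cons 8 (nat_lit 0xa0)
 (Net.cons 4 (nat_lit 0xa00)
 (Net.cons 2 (nat_lit 0x202020)
 (Net.cons 1 (nat_lit 0x1414440)
 (Net.cons 2 (nat_lit 0x1010100)
 (Net.cons 4 (nat_lit 0x600)
 (Net.cons 8 (nat_lit 0x60)
 Net.nil)))))))

noncomputable def nets_3 : Net :=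
 (Net.cons 16 (nat_lit 0xf138)
 (Net.cons 8 (nat_lit 0x3000c8)
 (Net.cons 4 (nat_lit 0xc020a08)
 (Net.cons 2 (nat_lit 0x2202200)
 (Net.cons 1 (nat_lit 0x4414110)
 (Net.cons 2 (nat_lit 0x11020220)
 (Net.cons 4 (nat_lit 0x9070e08)
 (Net.cons 8 (nat_lit 0x7200c8)
 (Net.cons 16 (nat_lit 0xf258)
 Net.nil)))))))))

noncomputable def nets_5 : Net :=
 (Net.cons 16 (nat_lit 0x4eae)
 (Net.cons 8 (nat_lit 0x3e0086)
 (Net.cons 4 (nat_lit 0x8000808)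
 (Net.cons 2 (nat_lit 0x2000202)
 (Net.cons 1 (nat_lit 0x14410154)
 (Net.cons 2 (nat_lit 0x23030233)
 (Net.cons 4 (nat_lit 0x8000808)
 (Net.cons 8 (nat_lit 0x7f0030)
 (Net.cons 16 (nat_lit 0x48b3)
 Net.nil)))))))))

noncomputable def nets_7 : Net :=
 (Net.cons 16 (nat_lit 0x20)
 (Net.cons 8 (nat_lit 0x80)
 (Net.cons 4 (nat_lit 0x400)
 (Net.cons 2 (nat_lit 0x20000)
 (Net.cons 1 (nat_lit 0x1140041)
 (Net.cons 2 (nat_lit 0x1032100)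
 (Net.cons 4 (nat_lit 0x400)
 (Net.cons 8 (nat_lit 0x70090)
 (Net.cons 16 (nat_lit 0x28)
 Net.nil)))))))))

noncomputable def nets_64 : Net :=
 (Net.cons 16 (nat_lit 0x2000)
 (Net.cons 8 (nat_lit 0x700050)
 (Net.cons 4 (nat_lit 0x20400)
 (Net.cons 2 (nat_lit 0x2)
 (Net.cons 1 (nat_lit 0x10504)
 (Net.cons 2 (nat_lit 0x11001022)
 (Net.cons 4 (nat_lit 0x70a0400)
 (Net.cons 8 (nat_lit 0x700050)
 (Net.cons 16 (nat_lit 0x2000)
 Net.nil)))))))))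

noncomputable def nets : List Net := (apd [Net.nil,
 nets_1,
 Net.rev nets_1,
 nets_3,
 Net.rev nets_3,
 nets_5,
 Net.rev nets_5,
 nets_7,
 Net.nil,
 Net.nil,
 Net.nil,
 Net.nil,
 Net.nil,
 Net.nil,
 Net.nil,
 Net.nil,
 Net.nil,
 Net.nil,
 Net.nil,
 Net.nil,
 Net.nil,
 Net.nil,
 Net.nil,
 Net.nil,
 Net.nil,
 Net.nil,
 Net.nil,
 Net.nil,
 Net.nil,
 Net.nil,
 Net.nil,
 Net.nil,
 Net.nil,
 Net.nil,
 Net.nil,
 Net.nil,
 Net.nil,
 Net.nil,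
 Net.nil,
 Net.nil]
 [Net.nil,
 Net.nil,
 Net.nil,
 Net.nil,
 Net.nil,
 Net.nil,
 Net.nil,
 Net.nil,
 Net.nil,
 Net.nil,
 Net.nil,
 Net.nil,
 Net.nil,
 Net.nil,
 Net.nil,
 Net.nil,
 Net.nil,
 Net.nil,
 Net.nil,
 Net.nil,
 Net.nil,
 Net.nil,
 Net.nil,
 Net.nil,
 nets_64])

theorem nets_ok : NetsOK 32 nets := netsOK_of (by decide +kernel)

theorem nets_rel : Rels (gp nets) R := rels_of_relsB (k := 5) nets_ok (by norm_num) (by decide +kernel)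

theorem nets_iv : IvOK (gp nets) iv := ivOK_of_ivB (k := 5) nets_ok (by norm_num) (by decide +kernel)

noncomputable def slp : List (ℕ × List ℕ) := [(64,[4,6,7,1,3])]

theorem slp_ok : slpB 32 5 nets slp L = true := by decide +kernel

theorem mem_all {x : ℕ} (h : x ∈ L ++ slp.map (·.1)) : gp nets x ∈ cl (gp nets) L :=
  cl_eq_of_slpB nets_ok (by norm_num) slp_ok ▸ mem_cl h

theorem lb : 576 ≤ Nat.card (cl (gp nets) L) := by
  rw [← cl_eq_of_slpB nets_ok (by norm_num) slp_ok]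
  exact lb_of_chainB nets_ok (C := [([1,2,64],[3,5,7,5,64,5],3,3,24),
 ([1,2],[64,1,1,64,1,64],4,4,8),
 ([],[1,1],13,13,3)]) (by decide +kernel)

end Cfsg.Lib.Comp.P43h
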